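import Groth.Prelude.Def_SymProd
import Mathlib.AlgebraicGeometry.Morphisms.Flat

/-! Cartesian squares: fibre powers under base change, sections over affine opens. -/

set_option autoImplicit false
set_option backward.isDefEq.respectTransparency false

universe u

open CategoryTheory CategoryTheory.Limits AlgebraicGeometry
open scoped TensorProduct

namespace Groth.Misc5Sym

/-- sections of a fibre product of affine opens, with elementwise formula -/
theorem exists_sections_tensor {X Y S T : Scheme.{u}} {f : T ⟶ S} {g : Y ⟶ X} {iX : X ⟶ S} {iY : Y ⟶ T}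
    (H : IsPullback g iY iX f) {US : S.Opens} {UT : T.Opens} {UX : X.Opens} (hUST : UT ≤ f ⁻¹ᵁ US)
    (hUSX : UX ≤ iX ⁻¹ᵁ US) (hUS : IsAffineOpen US) (hUT : IsAffineOpen UT) (hUX : IsAffineOpen UX)
    {UY : Y.Opens} (hUY : UY = g ⁻¹ᵁ UX ⊓ iY ⁻¹ᵁ UT) (e₁ : UY ≤ g ⁻¹ᵁ UX) (e₂ : UY ≤ iY ⁻¹ᵁ UT) :
    letI : Algebra Γ(S, US) Γ(T, UT) := (f.appLE US UT hUST).hom.toAlgebra
    letI : Algebra Γ(S, US) Γ(X, UX) := (iX.appLE US UX hUSX).hom.toAlgebra
    ∃ e : (Γ(T, UT) ⊗[Γ(S, US)] Γ(X, UX)) ≃+* Γ(Y, UY),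
      ∀ r x, e (r ⊗ₜ[Γ(S, US)] x) = iY.appLE UT UY e₂ r * g.appLE UX UY e₁ x := by
  letI : Algebra Γ(S, US) Γ(T, UT) := (f.appLE US UT hUST).hom.toAlgebra
  letI : Algebra Γ(S, US) Γ(X, UX) := (iX.appLE US UX hUSX).hom.toAlgebra
  have h : IsPushout (f.appLE US UT hUST) (iX.appLE US UX hUSX) (iY.appLE UT UY e₂) (g.appLE UX UY e₁) :=
    ((isIso_pushoutSection_iff H hUST hUSX hUY).1 (isIso_pushoutSection_of_isAffineOpen H hUST hUSX hUY hUS hUT hUX)).flip
  have h₀ := CommRingCat.isPushout_tensorProduct Γ(S, US) Γ(T, UT) Γ(X, UX)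
  let i := IsPushout.isoIsPushout _ _ h₀ h
  refine ⟨i.commRingCatIsoToRingEquiv, fun r x => ?_⟩
  have hl := IsPushout.inl_isoIsPushout_hom _ _ h₀ h
  have hr := IsPushout.inr_isoIsPushout_hom _ _ h₀ h
  show i.hom (r ⊗ₜ[Γ(S, US)] x) = _
  rw [show r ⊗ₜ[Γ(S, US)] x = (r ⊗ₜ[Γ(S, US)] (1 : Γ(X, UX))) * ((1 : Γ(T, UT)) ⊗ₜ[Γ(S, US)] x) by simp]
  refine (map_mul i.hom.hom _ _).trans ?_
  congr 1
  · exact RingHom.congr_fun (congrArg CommRingCat.Hom.hom hl) r
  · exact RingHom.congr_fun (congrArg CommRingCat.Hom.hom hr) x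

/-- the fibre power of a base change is the base change of the fibre power -/
theorem isPullback_fibPow {X S S' : Scheme.{u}} (f : X ⟶ S) (b : S' ⟶ S) (n : ℕ)
    (c : SymProd.fibPow (pullback.snd f b) n ⟶ SymProd.fibPow f n)
    (hcπ : ∀ i : Fin n, c ≫ WidePullback.π (fun _ => f) i =
      WidePullback.π (fun _ => pullback.snd f b) i ≫ pullback.fst f b)
    (hcb : c ≫ WidePullback.base (fun _ => f) = WidePullback.base (fun _ => pullback.snd f b) ≫ b) :
    IsPullback c (WidePullback.base (fun _ : Fin n => pullback.snd f b)) (WidePullback.base (fun _ => f)) b := by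
  have hw : ∀ (s : PullbackCone (WidePullback.base (fun _ : Fin n => f)) b) (i : Fin n),
      (s.fst ≫ WidePullback.π (fun _ : Fin n => f) i) ≫ f = s.snd ≫ b := fun s i => by
    rw [Category.assoc, WidePullback.π_arrow, s.condition]
  refine ⟨⟨hcb⟩, ⟨PullbackCone.IsLimit.mk hcb
    (fun s => WidePullback.lift s.snd (fun i => pullback.lift _ _ (hw s i)) (fun i => pullback.lift_snd _ _ _))
    (fun s => ?_) (fun s => WidePullback.lift_base _ _ _ _) (fun s m h1 h2 => ?_)⟩⟩
  · apply WidePullback.hom_ext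
    · intro i
      rw [Category.assoc, hcπ, WidePullback.lift_π_assoc, pullback.lift_fst]
    · rw [Category.assoc, hcb, WidePullback.lift_base_assoc, ← s.condition]
  · apply WidePullback.hom_ext
    · intro i
      rw [WidePullback.lift_π]
      apply pullback.hom_ext
      · rw [pullback.lift_fst, Category.assoc, ← hcπ, ← Category.assoc, h1]
      · rw [pullback.lift_snd, Category.assoc, WidePullback.π_arrow, h2]
    · rw [WidePullback.lift_base, h2]

end Groth.Misc5Sym
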