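import Groth.Agent.Pi1Quot.Basic
import Groth.Agent.FlatMorOne.FiniteAvoid
import Mathlib.AlgebraicGeometry.Morphisms.Affine

set_option autoImplicit false
set_option backward.isDefEq.respectTransparency false

universe u

open CategoryTheory AlgebraicGeometry

namespace Groth.Misc5Sym

variable {X Y : Scheme.{u}} {G : Type u} [Group G] [Finite G] {ρ : G →* Aut X} {p : X ⟶ Y}

theorem mem_basicOpen_prod_iff {U : X.Opens} {ι : Type*} [Fintype ι] (a : ι → Γ(X, U)) {x : X} (hx : x ∈ U) :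
    x ∈ X.basicOpen (∏ i, a i) ↔ ∀ i, x ∈ X.basicOpen (a i) := by
  rw [X.mem_basicOpen _ x hx, map_prod, IsUnit.prod_iff]
  simp only [Finset.mem_univ, true_implies]
  exact forall_congr' fun i => (X.mem_basicOpen _ x hx).symm

/-- an open of a quotient by a finite group is affine if its preimage is -/
theorem isAffineOpen_of_preimage (hp : SGA1.IsQuot ρ p) (W : Y.Opens) (hW : IsAffineOpen (p ⁻¹ᵁ W)) :
    IsAffineOpen W := by
  classical
  haveI := Fintype.ofFinite G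
  haveI := hp.affine
  letI := Groth.Pi1Quot.action hp.inv W
  letI := Groth.Pi1Quot.algebra (p := p) W
  haveI := Groth.Pi1Quot.smulCommClass hp W
  haveI := Groth.Pi1Quot.isInvariant hp W
  haveI := Groth.Pi1Quot.faithfulSMul hp W
  haveI := Algebra.IsInvariant.isIntegral Γ(Y, W) Γ(X, p ⁻¹ᵁ W) G
  let s : Set Γ(Y, W) := {b | IsAffineOpen (Y.basicOpen b)}
  have hcover : ∀ x ∈ p ⁻¹ᵁ W, ∃ b ∈ s, x ∈ X.basicOpen (p.app W b) := by
    intro x hx
    obtain ⟨_, ⟨Y₀, hY₀, rfl⟩, hxY₀, hY₀W⟩ :=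
      Y.isBasis_affineOpens.exists_subset_of_mem_open (show p x ∈ (W : Set Y) from hx) W.2
    haveI : IsAffine (p ⁻¹ᵁ W) := hW
    have hstab : ∀ g : G, (ρ g).hom x ∈ p ⁻¹ᵁ W ⊓ p ⁻¹ᵁ Y₀ := fun g => by
      refine ⟨?_, ?_⟩
      · show p _ ∈ W
        rw [Groth.Pi1Quot.apply_smul hp]; exact hx
      · show p _ ∈ Y₀
        rw [Groth.Pi1Quot.apply_smul hp]; exact hxY₀
    let T : Finset ((p ⁻¹ᵁ W : X.Opens) : Scheme.{u}) := Finset.univ.image fun g => ⟨(ρ g).hom x, (hstab g).1⟩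
    obtain ⟨h, hh, hle⟩ := Groth.FlatMorOne.exists_basicOpen_finset ((p ⁻¹ᵁ W).ι ⁻¹ᵁ (p ⁻¹ᵁ Y₀)) T (by
      intro z hz
      obtain ⟨g, -, rfl⟩ := Finset.mem_image.1 hz
      exact (hstab g).2)
    let a : Γ(X, p ⁻¹ᵁ W) := (p ⁻¹ᵁ W).topIso.hom h
    have ha : ∀ (y : X) (hy : y ∈ p ⁻¹ᵁ W), y ∈ X.basicOpen a ↔
        (⟨y, hy⟩ : ((p ⁻¹ᵁ W : X.Opens) : Scheme.{u})) ∈ ((p ⁻¹ᵁ W : X.Opens) : Scheme.{u}).basicOpen h := by
      intro y hy
      rw [Scheme.Opens.mem_basicOpen_toScheme]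
      have e : X.basicOpen ((p ⁻¹ᵁ W).topIso.hom h) = X.basicOpen h := by
        rw [Scheme.Opens.topIso_hom]
        exact X.basicOpen_res_eq _ _
      show y ∈ X.basicOpen ((p ⁻¹ᵁ W).topIso.hom h) ↔ _
      rw [e]
    let N : Γ(X, p ⁻¹ᵁ W) := ∏ g : G, g • a
    have hN : ∀ g, Groth.Pi1Quot.sectionHom hp.inv W g N = N := by
      intro g
      show g • N = N
      rw [Finset.smul_prod']
      exact Fintype.prod_equiv (Equiv.mulLeft g) _ _ fun g' => (mul_smul g g' a).symm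
    obtain ⟨b, hb⟩ := (hp.range_iff W N).2 ((Groth.Pi1Quot.forall_smul_iff hp.inv W N).1 hN)
    have hmem : ∀ (y : X) (hy : y ∈ p ⁻¹ᵁ W),
        y ∈ X.basicOpen N ↔ ∀ g : G, (ρ g⁻¹).hom y ∈ X.basicOpen a := by
      intro y hy
      rw [mem_basicOpen_prod_iff _ hy]
      refine forall_congr' fun g => ?_
      show y ∈ X.basicOpen ((ρ g⁻¹).hom.appLE (p ⁻¹ᵁ W) (p ⁻¹ᵁ W) _ a) ↔ _
      rw [Scheme.basicOpen_appLE]
      exact ⟨fun h => h.2, fun h => ⟨hy, h⟩⟩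
    have hxb : x ∈ X.basicOpen (p.app W b) := by
      rw [show p.app W b = N from hb, hmem x hx]
      intro g
      rw [ha _ (hstab g⁻¹).1]
      exact hh _ (Finset.mem_image.2 ⟨g⁻¹, Finset.mem_univ _, rfl⟩)
    have hbY : Y.basicOpen b ≤ Y₀ := by
      intro y hy
      obtain ⟨z, rfl⟩ := (Groth.Pi1Quot.surjective hp).surj y
      have hzW : z ∈ p ⁻¹ᵁ W := Y.basicOpen_le b hy
      have hz : z ∈ X.basicOpen N := by
        rw [← show p.app W b = N from hb, ← Scheme.preimage_basicOpen]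
        exact hy
      have h1 := (hmem z hzW).1 hz 1
      rw [inv_one, map_one] at h1
      exact hle ((ha z hzW).1 h1)
    refine ⟨b, ?_, hxb⟩
    have hres : Y.basicOpen (Y.presheaf.map (homOfLE hY₀W).op b) = Y.basicOpen b := by
      rw [Scheme.basicOpen_res]
      exact inf_eq_right.2 hbY
    show IsAffineOpen (Y.basicOpen b)
    rw [← hres]
    exact (show IsAffineOpen Y₀ from hY₀).basicOpen _
  refine isAffineOpen_of_isAffineOpen_basicOpen W s ?_ fun b hb => hb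
  by_contra hne
  obtain ⟨P, hP, hle⟩ := Ideal.exists_le_maximal _ hne
  obtain ⟨Q, hQ⟩ := Algebra.IsIntegral.comap_surjective Γ(Y, W) Γ(X, p ⁻¹ᵁ W) ⟨P, hP.isPrime⟩
  have htop : Ideal.span ((p.app W).hom '' s) = ⊤ := by
    rw [← hW.iSup_basicOpen_eq_self_iff]
    refine le_antisymm (iSup_le fun f => X.basicOpen_le _) fun x hx => ?_
    obtain ⟨b, hb, hxb⟩ := hcover x hx
    exact TopologicalSpace.Opens.mem_iSup.2 ⟨⟨_, b, hb, rfl⟩, hxb⟩
  refine Q.2.ne_top (top_le_iff.1 (htop ▸ Ideal.span_le.2 ?_))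
  rintro _ ⟨b, hb, rfl⟩
  have hbP : b ∈ P := hle (Ideal.subset_span hb)
  rw [← show Q.asIdeal.comap (algebraMap Γ(Y, W) Γ(X, p ⁻¹ᵁ W)) = P from congrArg PrimeSpectrum.asIdeal hQ] at hbP
  exact hbP

end Groth.Misc5Sym
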