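import Groth.Agent.Misc5Sym.Chart
import Groth.Agent.Misc5Sym.QuotAffine
import Mathlib.RingTheory.PiTensorProduct

/-! Sections of the fibre power over a chart are the tensor power. -/

set_option autoImplicit false
set_option backward.isDefEq.respectTransparency false

universe u

open CategoryTheory CategoryTheory.Limits AlgebraicGeometry
open scoped TensorProduct

namespace Groth.Misc5Sym

section Chart

variable {X S : Scheme.{u}} (f : X ⟶ S) (d : ℕ) (U : X.Opens) (V : S.Opens)

/-- the chart over `V` given by `U`, also meaningful for `d = 0` -/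
noncomputable def chartOpen : (SymProd.fibPow f d).Opens :=
  powOpen f d U ⊓ (WidePullback.base (fun _ : Fin d => f)) ⁻¹ᵁ V

theorem mem_chartOpen {x : ↥(SymProd.fibPow f d)} :
    x ∈ chartOpen f d U V ↔ (∀ i, (WidePullback.π (fun _ : Fin d => f) i).base x ∈ U) ∧
      (WidePullback.base (fun _ : Fin d => f)).base x ∈ V := by
  rw [← mem_powOpen]
  rfl

theorem isAffineOpen_chartOpen {U : X.Opens} (hU : IsAffineOpen U) {V : S.Opens} (hV : IsAffineOpen V)
    (hUV : U ≤ f ⁻¹ᵁ V) : IsAffineOpen (chartOpen f d U V) := by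
  rcases Nat.eq_zero_or_pos d with rfl | hd
  · haveI : IsIso (WidePullback.base (fun _ : Fin 0 => f)) := by
      refine ⟨WidePullback.lift (𝟙 S) (fun i => i.elim0) (fun i => i.elim0), ?_, WidePullback.lift_base _ _ _ _⟩
      apply WidePullback.hom_ext
      · exact fun i => i.elim0
      · rw [Category.assoc, WidePullback.lift_base, Category.comp_id, Category.id_comp]
    have h : chartOpen f 0 U V = (WidePullback.base (fun _ : Fin 0 => f)) ⁻¹ᵁ V := by
      ext x
      exact (mem_chartOpen f 0 U V).trans ⟨fun h => h.2, fun h => ⟨fun i => i.elim0, h⟩⟩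
    rw [h]
    exact hV.preimage_of_isIso _
  · have h : chartOpen f d U V = powOpen f d U := by
      refine inf_eq_left.2 fun x hx => ?_
      show (WidePullback.base (fun _ : Fin d => f)).base x ∈ V
      rw [← WidePullback.π_arrow (fun _ : Fin d => f) ⟨0, hd⟩]
      exact hUV ((mem_powOpen f d).1 hx _)
    rw [h]
    exact isAffineOpen_powOpen f hd hU hV hUV

theorem perm_preimage_chartOpen (σ : Equiv.Perm (Fin d)) :
    SymProd.permHom f d σ ⁻¹ᵁ chartOpen f d U V = chartOpen f d U V := by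
  rw [chartOpen, Scheme.Hom.preimage_inf, perm_preimage_powOpen, ← Scheme.Hom.comp_preimage,
    SymProd.permHom_base]

/-- a quotient by the permutations is covered by images of charts -/
theorem exists_chart_image {Y : Scheme.{u}} {q : SymProd.fibPow f d ⟶ Y}
    (hp : SGA1.IsQuot (SymProd.permActU f d) q) (hAF : SymProd.IsAF f) (x : ↥(SymProd.fibPow f d))
    {V : S.Opens} (hV : IsAffineOpen V) (hx : (WidePullback.base (fun _ : Fin d => f)).base x ∈ V) :
    ∃ (U : X.Opens), IsAffineOpen U ∧ U ≤ f ⁻¹ᵁ V ∧ ∃ W' : Y.Opens, q x ∈ W' ∧ IsAffineOpen W' ∧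
      q ⁻¹ᵁ W' = chartOpen f d U V := by
  obtain ⟨U, hU, hUV, hxU⟩ := exists_chart f hAF x hx
  let W := chartOpen f d U V
  have hsat : q.base ⁻¹' (q.base '' (W : Set ↥(SymProd.fibPow f d))) = W := by
    refine Set.Subset.antisymm ?_ (Set.subset_preimage_image _ _)
    rintro z ⟨w, hw, hwz⟩
    obtain ⟨σ, rfl⟩ := Groth.Pi1Quot.exists_smul_eq hp hwz
    change (SymProd.permHom f d σ.down).base w ∈ W
    have h : w ∈ SymProd.permHom f d σ.down ⁻¹ᵁ W := by rw [perm_preimage_chartOpen]; exact hw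
    exact h
  let W' : Y.Opens := ⟨q.base '' (W : Set ↥(SymProd.fibPow f d)), by
    rw [← (Groth.Pi1Quot.isQuotientMap hp).isOpen_preimage, hsat]
    exact W.2⟩
  have hW' : q ⁻¹ᵁ W' = W := TopologicalSpace.Opens.ext hsat
  exact ⟨U, hU, hUV, W', ⟨x, ⟨hxU, hx⟩, rfl⟩,
    isAffineOpen_of_preimage hp W' (hW'.symm ▸ isAffineOpen_chartOpen f d hU hV hUV), hW'⟩

end Chart

section Sections

variable {X S : Scheme.{u}} (f : X ⟶ S) {d : ℕ} {U : X.Opens} {V : S.Opens} (hUV : U ≤ f ⁻¹ᵁ V)
  {W : (SymProd.fibPow f d).Opens} (hWV : W ≤ (WidePullback.base (fun _ : Fin d => f)) ⁻¹ᵁ V)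
  (hWU : ∀ i, W ≤ (WidePullback.π (fun _ : Fin d => f) i) ⁻¹ᵁ U)

/-- the algebra structure on sections over the affine open of `X` -/
@[implicit_reducible]
noncomputable def algU : Algebra Γ(S, V) Γ(X, U) := (f.appLE V U hUV).hom.toAlgebra

/-- the algebra structure on sections over the chart -/
@[implicit_reducible]
noncomputable def algW : Algebra Γ(S, V) Γ(SymProd.fibPow f d, W) :=
  ((WidePullback.base (fun _ : Fin d => f)).appLE V W hWV).hom.toAlgebra

theorem exists_algEquiv_sections (hU : IsAffineOpen U) (hV : IsAffineOpen V) (hW : IsAffineOpen W)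
    (hWmem : ∀ x, (∀ i, (WidePullback.π (fun _ : Fin d => f) i).base x ∈ U) →
      (WidePullback.base (fun _ : Fin d => f)).base x ∈ V → x ∈ W) :
    letI := algU f hUV
    letI := algW f hWV
    ∃ Φ : (⨂[Γ(S, V)] _ : Fin d, Γ(X, U)) ≃ₐ[Γ(S, V)] Γ(SymProd.fibPow f d, W),
      ∀ c : Fin d → Γ(X, U), Φ (PiTensorProduct.tprod Γ(S, V) c) =
        ∏ i, (WidePullback.π (fun _ : Fin d => f) i).appLE U W (hWU i) (c i) := by
  classical
  letI := algU f hUV
  letI := algW f hWV
  let R := Γ(S, V)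
  let T := ⨂[R] _ : Fin d, Γ(X, U)
  let π := fun i => WidePullback.π (fun _ : Fin d => f) i
  let base := WidePullback.base (fun _ : Fin d => f)
  have hφ : ∀ i, f.appLE V U hUV ≫ (π i).appLE U W (hWU i) = base.appLE V W hWV := fun i => by
    rw [Scheme.Hom.appLE_comp_appLE]
    exact Groth.Pi1Quot.appLE_congr_hom (WidePullback.π_arrow _ i) _ _ _ _
  let φ : Fin d → (Γ(X, U) →ₐ[R] Γ(SymProd.fibPow f d, W)) := fun i =>
    { ((π i).appLE U W (hWU i)).hom with
      commutes' := fun r => RingHom.congr_fun (congrArg CommRingCat.Hom.hom (hφ i)) r }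
  let Φ : T →ₐ[R] Γ(SymProd.fibPow f d, W) := PiTensorProduct.liftAlgHom
    ((MultilinearMap.mkPiAlgebra R (Fin d) Γ(SymProd.fibPow f d, W)).compLinearMap fun i => (φ i).toLinearMap)
    (by simp) (fun x y => by simp [Finset.prod_mul_distrib])
  have hΦ : ∀ c, Φ (PiTensorProduct.tprod R c) = ∏ i, φ i (c i) := fun c => by
    show PiTensorProduct.lift _ (PiTensorProduct.tprod R c) = _
    rw [PiTensorProduct.lift.tprod]
    simp
  have hΦs : ∀ i c, Φ (PiTensorProduct.singleAlgHom i c) = φ i c := fun i c => by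
    rw [PiTensorProduct.singleAlgHom_apply, hΦ, Finset.prod_eq_single i]
    · simp
    · intro j _ hji; simp [Pi.mulSingle_eq_of_ne hji]
    · simp
  let σi : ∀ i, Γ(X, U) ⟶ CommRingCat.of T := fun i =>
    CommRingCat.ofHom (PiTensorProduct.singleAlgHom (R := R) (A := fun _ : Fin d => Γ(X, U)) i).toRingHom
  let ρ : Γ(S, V) ⟶ CommRingCat.of T := CommRingCat.ofHom (algebraMap R T)
  have hσ : ∀ i, f.appLE V U hUV ≫ σi i = ρ := fun i =>
    CommRingCat.hom_ext (PiTensorProduct.singleAlgHom (R := R) (A := fun _ : Fin d => Γ(X, U)) i).comp_algebraMap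
  let k : Spec (CommRingCat.of T) ⟶ SymProd.fibPow f d :=
    WidePullback.lift (Spec.map ρ ≫ hV.fromSpec) (fun i => Spec.map (σi i) ≫ hU.fromSpec) (fun i => by
      rw [Category.assoc, ← IsAffineOpen.SpecMap_appLE_fromSpec f hV hU hUV, ← Spec.map_comp_assoc, hσ])
  have hkπ : ∀ i, k ≫ π i = Spec.map (σi i) ≫ hU.fromSpec := WidePullback.lift_π _ _ _ _
  have hkb : k ≫ base = Spec.map ρ ≫ hV.fromSpec := WidePullback.lift_base _ _ _ _
  have hk : Set.range k.base ⊆ Set.range hW.fromSpec.base := by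
    rw [IsAffineOpen.range_fromSpec]
    rintro _ ⟨z, rfl⟩
    refine hWmem _ (fun i => ?_) ?_
    · show (π i).base (k.base z) ∈ (U : Set X)
      rw [← Scheme.Hom.comp_apply, hkπ, ← hU.range_fromSpec, Scheme.Hom.comp_apply]
      exact Set.mem_range_self _
    · show base.base (k.base z) ∈ (V : Set S)
      rw [← Scheme.Hom.comp_apply, hkb, ← hV.range_fromSpec, Scheme.Hom.comp_apply]
      exact Set.mem_range_self _
  let ψ := Spec.preimage (IsOpenImmersion.lift hW.fromSpec k hk)
  have hψ : Spec.map ψ ≫ hW.fromSpec = k := by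
    rw [Spec.map_preimage]; exact IsOpenImmersion.lift_fac _ _ _
  have hψπ : ∀ i, (π i).appLE U W (hWU i) ≫ ψ = σi i := fun i => by
    refine Spec.map_injective ((cancel_mono hU.fromSpec).1 ?_)
    rw [Spec.map_comp, Category.assoc, IsAffineOpen.SpecMap_appLE_fromSpec (π i) hU hW, ← Category.assoc, hψ,
      hkπ]
  have hψb : base.appLE V W hWV ≫ ψ = ρ := by
    refine Spec.map_injective ((cancel_mono hV.fromSpec).1 ?_)
    rw [Spec.map_comp, Category.assoc, IsAffineOpen.SpecMap_appLE_fromSpec base hV hW, ← Category.assoc, hψ,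
      hkb]
  let Ψ : Γ(SymProd.fibPow f d, W) →ₐ[R] T :=
    { ψ.hom with commutes' := fun r => RingHom.congr_fun (congrArg CommRingCat.Hom.hom hψb) r }
  have h1 : Ψ.comp Φ = AlgHom.id R T := by
    refine PiTensorProduct.algHom_ext fun i => AlgHom.ext fun c => ?_
    show Ψ (Φ (PiTensorProduct.singleAlgHom i c)) = PiTensorProduct.singleAlgHom i c
    rw [hΦs]
    exact RingHom.congr_fun (congrArg CommRingCat.Hom.hom (hψπ i)) c
  have h2 : ψ ≫ CommRingCat.ofHom Φ.toRingHom = 𝟙 _ := by
    refine Spec.map_injective ((cancel_mono hW.fromSpec).1 ?_)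
    rw [Spec.map_comp, Category.assoc, hψ, Spec.map_id]
    refine Eq.trans ?_ (Category.id_comp _).symm
    apply WidePullback.hom_ext
    · intro i
      rw [Category.assoc]
      show _ ≫ k ≫ π i = hW.fromSpec ≫ π i
      rw [hkπ, ← Spec.map_comp_assoc, ← IsAffineOpen.SpecMap_appLE_fromSpec (π i) hU hW (hWU i)]
      congr 2
      exact CommRingCat.hom_ext (RingHom.ext fun c => hΦs i c)
    · rw [Category.assoc]
      show _ ≫ k ≫ base = hW.fromSpec ≫ base
      rw [hkb, ← Spec.map_comp_assoc, ← IsAffineOpen.SpecMap_appLE_fromSpec base hV hW hWV]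
      congr 2
      exact CommRingCat.hom_ext Φ.comp_algebraMap
  exact ⟨AlgEquiv.ofAlgHom Φ Ψ (AlgHom.ext fun b => RingHom.congr_fun (congrArg CommRingCat.Hom.hom h2) b) h1,
    fun c => hΦ c⟩

theorem sections_perm (hW : IsAffineOpen W) (σ : Equiv.Perm (Fin d)) (e : W ≤ SymProd.permHom f d σ ⁻¹ᵁ W) :
    letI := algU f hUV
    letI := algW f hWV
    ∀ (Φ : (⨂[Γ(S, V)] _ : Fin d, Γ(X, U)) ≃ₐ[Γ(S, V)] Γ(SymProd.fibPow f d, W)),
      (∀ c : Fin d → Γ(X, U), Φ (PiTensorProduct.tprod Γ(S, V) c) =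
        ∏ i, (WidePullback.π (fun _ : Fin d => f) i).appLE U W (hWU i) (c i)) →
      ∀ t, (SymProd.permHom f d σ).appLE W W e (Φ t) =
        Φ (PiTensorProduct.reindex Γ(S, V) (fun _ : Fin d => Γ(X, U)) σ.symm t) := by
  letI := algU f hUV
  letI := algW f hWV
  intro Φ hΦ t
  induction t using PiTensorProduct.induction_on with
  | add a b ha hb => simp only [map_add, ha, hb]
  | smul_tprod r c =>
    simp only [map_smul, PiTensorProduct.reindex_tprod, hΦ]
    rw [Algebra.smul_def, Algebra.smul_def, map_mul, map_prod]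
    have hb : (SymProd.permHom f d σ).appLE W W e (algebraMap Γ(S, V) Γ(SymProd.fibPow f d, W) r) =
        algebraMap Γ(S, V) Γ(SymProd.fibPow f d, W) r := by
      show (((WidePullback.base (fun _ : Fin d => f)).appLE V W hWV) ≫ (SymProd.permHom f d σ).appLE W W e) r = _
      rw [Scheme.Hom.appLE_comp_appLE]
      rw [Groth.Pi1Quot.appLE_congr_hom (SymProd.permHom_base f d σ) V W _ hWV]
      rfl
    rw [hb]
    congr 1
    refine Fintype.prod_equiv σ.symm _ _ fun i => ?_
    show ((WidePullback.π (fun _ : Fin d => f) i).appLE U W (hWU i) ≫ (SymProd.permHom f d σ).appLE W W e) (c i) = _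
    rw [Scheme.Hom.appLE_comp_appLE,
      Groth.Pi1Quot.appLE_congr_hom (SymProd.permHom_π f d σ i) U W _ (hWU (σ.symm i))]
    exact congrArg _ (congrArg c (σ.apply_symm_apply i).symm)

end Sections

end Groth.Misc5Sym
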