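import Groth.Prelude.Def_SymProd
import Groth.Agent.FlatMorOne.FiniteAvoid
import Mathlib.AlgebraicGeometry.Restrict

set_option autoImplicit false

universe u

open CategoryTheory CategoryTheory.Limits AlgebraicGeometry

namespace Groth.Misc5Sym

variable {X S : Scheme.{u}} (f : X ⟶ S) (d : ℕ)

/-- the points of the fibre power all whose components lie in `U` -/
noncomputable def powOpen (U : X.Opens) : (SymProd.fibPow f d).Opens :=
  ⟨⋂ i : Fin d, (WidePullback.π (fun _ : Fin d => f) i).base ⁻¹' (U : Set X),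
    isOpen_iInter_of_finite fun i => U.2.preimage (WidePullback.π (fun _ : Fin d => f) i).continuous⟩

theorem mem_powOpen {U : X.Opens} {x : ↥(SymProd.fibPow f d)} :
    x ∈ powOpen f d U ↔ ∀ i, (WidePullback.π (fun _ : Fin d => f) i).base x ∈ U := Set.mem_iInter

theorem powOpen_le (U : X.Opens) (i : Fin d) :
    powOpen f d U ≤ (WidePullback.π (fun _ : Fin d => f) i) ⁻¹ᵁ U := fun x hx => (mem_powOpen f d).1 hx i

theorem perm_preimage_powOpen (U : X.Opens) (σ : Equiv.Perm (Fin d)) :
    SymProd.permHom f d σ ⁻¹ᵁ powOpen f d U = powOpen f d U := by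
  ext x
  have h : ∀ i, (WidePullback.π (fun _ : Fin d => f) i).base ((SymProd.permHom f d σ).base x) =
      (WidePullback.π (fun _ : Fin d => f) (σ.symm i)).base x := fun i => by
    rw [← SymProd.permHom_π f d σ i]; rfl
  simp only [TopologicalSpace.Opens.map_coe, Set.mem_preimage, SetLike.mem_coe, mem_powOpen]
  simp only [h]
  exact ⟨fun H i => by simpa using H (σ i), fun H i => H _⟩

variable {d}

/-- over affine opens the corresponding open of the fibre power is affine -/
theorem isAffineOpen_powOpen (hd : 0 < d) {U : X.Opens} (hU : IsAffineOpen U) {V : S.Opens}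
    (hV : IsAffineOpen V) (hUV : U ≤ f ⁻¹ᵁ V) : IsAffineOpen (powOpen f d U) := by
  classical
  haveI : IsAffine U := hU
  haveI : IsAffine V := hV
  let fU : (U : Scheme.{u}) ⟶ V := f.resLE V U hUV
  have hfU : fU ≫ V.ι = U.ι ≫ f := Scheme.Hom.resLE_comp_ι f hUV
  let P := widePullback (V : Scheme.{u}) (fun _ : Fin d => (U : Scheme.{u})) (fun _ => fU)
  haveI : IsAffine P := by
    haveI : ∀ i, IsAffine ((WidePullbackShape.wideCospan (V : Scheme.{u}) (fun _ : Fin d => (U : Scheme.{u}))
        (fun _ => fU)).obj i) := fun i => by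
      cases i with
      | none => exact ‹IsAffine (V : Scheme.{u})›
      | some j => exact ‹IsAffine (U : Scheme.{u})›
    exact Scheme.isAffine_of_isLimit _ (limit.isLimit _)
  let W := powOpen f d U
  let toX : P ⟶ SymProd.fibPow f d :=
    WidePullback.lift (WidePullback.base (fun _ : Fin d => fU) ≫ V.ι)
      (fun i => WidePullback.π (fun _ : Fin d => fU) i ≫ U.ι)
      (fun i => by rw [Category.assoc, ← hfU, WidePullback.π_arrow_assoc])
  have htoX : Set.range toX.base ⊆ (W : Set ↥(SymProd.fibPow f d)) := by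
    rintro _ ⟨z, rfl⟩
    refine (mem_powOpen f d).2 fun i => ?_
    have h : toX ≫ WidePullback.π (fun _ : Fin d => f) i = WidePullback.π (fun _ : Fin d => fU) i ≫ U.ι :=
      WidePullback.lift_π _ _ _ _ i
    have h' : (WidePullback.π (fun _ : Fin d => f) i).base (toX.base z) =
        U.ι.base ((WidePullback.π (fun _ : Fin d => fU) i).base z) := by
      rw [← Scheme.Hom.comp_apply toX, h]; rfl
    rw [h']
    exact ((WidePullback.π (fun _ : Fin d => fU) i).base z).2
  let b : P ⟶ W := IsOpenImmersion.lift W.ι toX (by rw [Scheme.Opens.range_ι]; exact htoX)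
  have hb : b ≫ W.ι = toX := IsOpenImmersion.lift_fac _ _ _
  let c : ∀ i, (W : Scheme.{u}) ⟶ U := fun i =>
    IsOpenImmersion.lift U.ι (W.ι ≫ WidePullback.π (fun _ : Fin d => f) i) (by
      rw [Scheme.Opens.range_ι]
      rintro _ ⟨z, rfl⟩
      exact (mem_powOpen f d).1 z.2 i)
  have hc : ∀ i, c i ≫ U.ι = W.ι ≫ WidePullback.π (fun _ : Fin d => f) i := fun i => IsOpenImmersion.lift_fac _ _ _
  let i₀ : Fin d := ⟨0, hd⟩
  have hc' : ∀ i, c i ≫ fU = c i₀ ≫ fU := fun i => by
    rw [← cancel_mono V.ι, Category.assoc, Category.assoc, hfU, ← Category.assoc, ← Category.assoc, hc, hc,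
      Category.assoc, Category.assoc, WidePullback.π_arrow, WidePullback.π_arrow]
  let a : (W : Scheme.{u}) ⟶ P := WidePullback.lift (c i₀ ≫ fU) c hc'
  have hab : a ≫ b = 𝟙 _ := by
    rw [← cancel_mono W.ι, Category.assoc, hb, Category.id_comp]
    apply WidePullback.hom_ext
    · intro i
      rw [Category.assoc]
      show a ≫ toX ≫ WidePullback.π (fun _ : Fin d => f) i = _
      rw [WidePullback.lift_π, WidePullback.lift_π_assoc, hc]
    · show (a ≫ toX) ≫ WidePullback.base (fun _ : Fin d => f) = _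
      rw [Category.assoc, WidePullback.lift_base, WidePullback.lift_base_assoc, Category.assoc, hfU, ← Category.assoc,
        hc, Category.assoc, WidePullback.π_arrow]
  have hba : b ≫ a = 𝟙 _ := by
    have hbc : ∀ i, b ≫ c i = WidePullback.π (fun _ : Fin d => fU) i := fun i => by
      rw [← cancel_mono U.ι, Category.assoc, hc, ← Category.assoc, hb]
      exact WidePullback.lift_π _ _ _ _ i
    apply WidePullback.hom_ext
    · intro i; rw [Category.assoc, WidePullback.lift_π, hbc, Category.id_comp]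
    · rw [Category.assoc, WidePullback.lift_base, ← Category.assoc, hbc, WidePullback.π_arrow, Category.id_comp]
  haveI : IsIso a := ⟨b, hab, hba⟩
  exact IsAffine.of_isIso a

/-- an affine open inside a given open containing finitely many given points of an affine open -/
theorem exists_affine_finset_le {U : X.Opens} (hU : IsAffineOpen U) (O : X.Opens) (T : Finset X)
    (hT : ∀ x ∈ T, x ∈ U ∧ x ∈ O) : ∃ U' : X.Opens, IsAffineOpen U' ∧ U' ≤ O ∧ ∀ x ∈ T, x ∈ U' := by
  classical
  haveI : IsAffine U := hU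
  let T' : Finset (U : Scheme.{u}) := T.attach.image fun x => ⟨x.1, (hT x.1 x.2).1⟩
  obtain ⟨h, hh, hle⟩ := Groth.FlatMorOne.exists_basicOpen_finset (U.ι ⁻¹ᵁ O) T' (by
    intro z hz
    obtain ⟨x, -, rfl⟩ := Finset.mem_image.1 hz
    exact (hT x.1 x.2).2)
  refine ⟨U.ι ''ᵁ (U : Scheme.{u}).basicOpen h, ?_, ?_, fun x hx => ?_⟩
  · exact ((isAffineOpen_top _).basicOpen h).image_of_isOpenImmersion U.ι
  · exact (Scheme.Hom.image_mono _ hle).trans (Scheme.Hom.image_preimage_le _ _)
  · exact ⟨⟨x, (hT x hx).1⟩, hh _ (Finset.mem_image.2 ⟨⟨x, hx⟩, Finset.mem_attach _ _, rfl⟩), rfl⟩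

/-- under (AF): a chart through any point, subordinate to a given affine open of the base -/
theorem exists_chart (hAF : SymProd.IsAF f) (x : ↥(SymProd.fibPow f d)) {V : S.Opens}
    (hx : (WidePullback.base (fun _ : Fin d => f)).base x ∈ V) :
    ∃ U : X.Opens, IsAffineOpen U ∧ U ≤ f ⁻¹ᵁ V ∧ x ∈ powOpen f d U := by
  classical
  let T : Finset X := Finset.univ.image fun i => (WidePullback.π (fun _ : Fin d => f) i).base x
  have hs : ∀ y ∈ T, f.base y = (WidePullback.base (fun _ : Fin d => f)).base x := by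
    intro y hy
    obtain ⟨i, -, rfl⟩ := Finset.mem_image.1 hy
    rw [← WidePullback.π_arrow (fun _ : Fin d => f) i]
    rfl
  obtain ⟨U₀, hU₀, hTU⟩ := hAF _ T hs
  obtain ⟨U, hU, hle, hUT⟩ := exists_affine_finset_le hU₀ (f ⁻¹ᵁ V) T (fun y hy => ⟨hTU y hy, by
    show f.base y ∈ V
    rw [hs y hy]
    exact hx⟩)
  exact ⟨U, hU, hle, (mem_powOpen f d).2 fun i => hUT _ (Finset.mem_image.2 ⟨i, Finset.mem_univ _, rfl⟩)⟩

end Groth.Misc5Sym
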