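import Groth.Agent.Misc8.SymOrbit

/-! Symmetric tensors of a flat module commute with every tensor product. -/

set_option autoImplicit false

universe u

open scoped TensorProduct
open PiTensorProduct

namespace Groth.Misc5Sym

open Groth.Misc8.FlatTensor Groth.Misc8.SymOrbit

variable {R : Type u} [CommRing R] {M : Type u} [AddCommGroup M] [Module R M] {N : Type u} [AddCommGroup N]
  [Module R N]

theorem flat_T [Module.Flat R M] (n : ℕ) : Module.Flat R (T R n M) := by
  classical
  refine Module.Flat.of_forall_isTrivialRelation fun {m r t} h => ?_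
  obtain ⟨l, x, s, hs⟩ := exists_lift n t
  obtain ⟨l', a, y, rfl, ha⟩ := exists_factor n x (Finset.univ : Finset Unit) (fun _ => ∑ i, r i • s i)
    (fun _ _ => by simp [hs, h])
  let B := stdBasis R n l'
  let e := Fintype.equivFin (Fin n → Fin l')
  refine ⟨_, fun i j => B.repr (Tmap n a (s i)) (e.symm j), fun j => Tmap n y (B (e.symm j)), fun i => ?_,
    fun j => ?_⟩
  · rw [← hs i, Tmap_comp]
    conv_lhs => rw [← B.sum_repr (Tmap n a (s i))]
    simp only [map_sum, map_smul]
    exact (e.symm.sum_comp fun g => B.repr (Tmap n a (s i)) g • Tmap n y (B g)).symm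
  · simpa using DFunLike.congr_fun (congrArg B.repr (ha () (Finset.mem_univ _))) (e.symm j)

theorem eq_sum_coord_tmul {ι : Type*} [Fintype ι] {P : Type u} [AddCommGroup P] [Module R P]
    (B : Module.Basis ι R P) (z : N ⊗[R] P) :
    z = ∑ h, TensorProduct.rid R N ((B.coord h).lTensor N z) ⊗ₜ[R] B h := by
  induction z using TensorProduct.induction_on with
  | zero => simp
  | add a b ha hb =>
    conv_lhs => rw [ha, hb]
    simp [TensorProduct.add_tmul, Finset.sum_add_distrib]
  | tmul n t =>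
    simp only [LinearMap.lTensor_tmul, TensorProduct.rid_tmul, Module.Basis.coord_apply, TensorProduct.smul_tmul,
      ← TensorProduct.tmul_sum, B.sum_repr]

/-- finitely many elements of `N ⊗ T (Rˡ)` killed by `x : Rˡ → M` are killed by a factor of `x` -/
theorem exists_factor_tensor [Module.Flat R M] (n : ℕ) {ι : Type} (S : Finset ι) :
    ∀ {l : ℕ} (x : (Fin l → R) →ₗ[R] M) (z : ι → N ⊗[R] T R n (Fin l → R)),
      (∀ i ∈ S, (Tmap n x).lTensor N (z i) = 0) → ∃ (l' : ℕ) (a : (Fin l → R) →ₗ[R] (Fin l' → R))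
        (y : (Fin l' → R) →ₗ[R] M), x = y ∘ₗ a ∧ ∀ i ∈ S, (Tmap n a).lTensor N (z i) = 0 := by
  classical
  induction S using Finset.induction_on with
  | empty => exact fun {l} x _ _ => ⟨l, LinearMap.id, x, rfl, by simp⟩
  | insert i₀ S hi₀ ih =>
    intro l x z hz
    obtain ⟨l₁, a₁, y₁, rfl, h₁⟩ := ih x z fun i hi => hz i (Finset.mem_insert_of_mem hi)
    set z₀ := (Tmap n a₁).lTensor N (z i₀) with hz₀
    let B := stdBasis R n l₁
    let e := Fintype.equivFin (Fin n → Fin l₁)
    let k := fun h => TensorProduct.rid R N ((B.coord h).lTensor N z₀)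
    have h0 : ∑ j, k (e.symm j) ⊗ₜ[R] Tmap n y₁ (B (e.symm j)) = 0 := by
      have h : (Tmap n y₁).lTensor N z₀ = 0 := by
        rw [hz₀, ← LinearMap.comp_apply, ← LinearMap.lTensor_comp,
          show Tmap n y₁ ∘ₗ Tmap n a₁ = Tmap n (y₁ ∘ₗ a₁) from (PiTensorProduct.map_comp _ _).symm]
        exact hz i₀ (Finset.mem_insert_self _ _)
      rw [eq_sum_coord_tmul B z₀, map_sum] at h
      rw [e.symm.sum_comp fun g => k g ⊗ₜ[R] Tmap n y₁ (B g)]
      simpa using h
    haveI := flat_T (R := R) (M := M) n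
    obtain ⟨κ, b, w, hb1, hb2⟩ := TensorProduct.vanishesTrivially_of_sum_tmul_eq_zero_of_rTensor_injective R
      (Module.Flat.rTensor_preserves_injective_linearMap _ Subtype.val_injective) h0
    obtain ⟨l₂, y₂, w', hw'⟩ := exists_lift n w
    let i₁ : (Fin l₁ → R) →ₗ[R] (Fin (l₁ + l₂) → R) :=
      Fintype.linearCombination R (fun i => Pi.single (Fin.castAdd l₂ i) (1 : R))
    let i₂ : (Fin l₂ → R) →ₗ[R] (Fin (l₁ + l₂) → R) :=
      Fintype.linearCombination R (fun i => Pi.single (Fin.natAdd l₁ i) (1 : R))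
    let y₁₂ : (Fin (l₁ + l₂) → R) →ₗ[R] M :=
      Fintype.linearCombination R (Fin.append (fun i => y₁ (Pi.single i 1)) (fun i => y₂ (Pi.single i 1)))
    have hi₁ : y₁₂ ∘ₗ i₁ = y₁ := by
      refine LinearMap.pi_ext' fun i => LinearMap.ext_ring ?_
      simp [i₁, y₁₂, Fintype.linearCombination_apply_single]
    have hi₂ : y₁₂ ∘ₗ i₂ = y₂ := by
      refine LinearMap.pi_ext' fun i => LinearMap.ext_ring ?_
      simp [i₂, y₁₂, Fintype.linearCombination_apply_single]
    let d := fun j => Tmap n i₁ (B (e.symm j)) - ∑ p, b j p • Tmap n i₂ (w' p)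
    obtain ⟨l₃, a, y, hy, ha⟩ := exists_factor n y₁₂ Finset.univ d (fun j _ => by
      simp only [d, map_sub, map_sum, map_smul, ← Tmap_comp, hi₁, hi₂, hw', ← hb1 j, sub_self])
    refine ⟨l₃, a ∘ₗ i₁ ∘ₗ a₁, y, ?_, fun i hi => ?_⟩
    · rw [← LinearMap.comp_assoc, ← hy, ← LinearMap.comp_assoc, hi₁]
    · have hT : Tmap n (a ∘ₗ i₁ ∘ₗ a₁) = (Tmap n a ∘ₗ Tmap n i₁) ∘ₗ Tmap n a₁ := by
        rw [Tmap, ← LinearMap.comp_assoc, PiTensorProduct.map_comp, PiTensorProduct.map_comp]
      rw [hT, LinearMap.lTensor_comp, LinearMap.comp_apply]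
      rcases Finset.mem_insert.mp hi with rfl | hi
      · rw [← hz₀, eq_sum_coord_tmul B z₀, map_sum, ← e.symm.sum_comp]
        simp only [LinearMap.lTensor_tmul, LinearMap.comp_apply]
        have hd : ∀ j, Tmap n a (Tmap n i₁ (B (e.symm j))) = ∑ p, b j p • Tmap n a (Tmap n i₂ (w' p)) := fun j => by
          have := ha j (Finset.mem_univ _)
          simpa [d, map_sum, sub_eq_zero] using this
        simp only [hd, TensorProduct.tmul_sum, ← TensorProduct.smul_tmul]
        rw [Finset.sum_comm]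
        refine Finset.sum_eq_zero fun p _ => ?_
        rw [← TensorProduct.sum_tmul, hb2 p, TensorProduct.zero_tmul]
      · rw [h₁ i hi, map_zero]

theorem exists_lift_tensor (n : ℕ) (z : N ⊗[R] T R n M) :
    ∃ (l : ℕ) (x : (Fin l → R) →ₗ[R] M) (w : N ⊗[R] T R n (Fin l → R)), (Tmap n x).lTensor N w = z := by
  obtain ⟨S, hS⟩ := TensorProduct.exists_finset z
  obtain ⟨l, x, s, hs⟩ := exists_lift n fun i : Fin S.card => (S.equivFin.symm i).1.2
  refine ⟨l, x, ∑ i, (S.equivFin.symm i).1.1 ⊗ₜ[R] s i, ?_⟩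
  simp only [map_sum, LinearMap.lTensor_tmul, hs]
  rw [S.equivFin.symm.sum_comp (fun p : S => p.1.1 ⊗ₜ[R] p.1.2), Finset.sum_coe_sort S fun p => p.1 ⊗ₜ[R] p.2,
    ← hS]

/-- for flat `M`, `N ⊗ TSⁿ(M) → N ⊗ Tⁿ(M)` is injective -/
theorem lTensor_subtype_injective [Module.Flat R M] (n : ℕ) :
    Function.Injective ((Sym R M n).subtype.lTensor N) := by
  classical
  refine (injective_iff_map_eq_zero _).2 fun u hu => ?_
  obtain ⟨S, rfl⟩ := TensorProduct.exists_finset u
  let t := fun i : Fin S.card => (S.equivFin.symm i).1.2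
  let m := fun i : Fin S.card => (S.equivFin.symm i).1.1
  have hsum : ∑ p ∈ S, p.1 ⊗ₜ[R] p.2 = ∑ i, m i ⊗ₜ[R] t i := by
    simp only [m, t]
    rw [S.equivFin.symm.sum_comp (fun p : S => p.1.1 ⊗ₜ[R] p.1.2), Finset.sum_coe_sort S fun p => p.1 ⊗ₜ[R] p.2]
  rw [hsum] at hu ⊢
  obtain ⟨l, x, s, hsym, hst, -⟩ := exists_sym_lift (fun i => (t i : T R n M)) (fun i => mem_Sym.mp (t i).2) 0
    (by simp)
  obtain ⟨l', a, y, rfl, ha⟩ := exists_factor_tensor n (Finset.univ : Finset Unit) x
    (fun _ => ∑ i, m i ⊗ₜ[R] s i) (fun _ _ => by simpa [hst] using hu)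
  let P : T R n (Fin l' → R) →ₗ[R] Sym R M n := ∑ v ∈ cls n l', (coord R n l' v).smulRight
    ⟨esum R (fun c => y (Pi.basisFun R (Fin l') c)) v, mem_Sym.mpr (esum_isSym _ _)⟩
  have hP : ∀ i, P (Tmap n a (s i)) = t i := fun i => Subtype.ext (by
    rw [← hst i, Tmap_comp]
    conv_rhs => rw [eq_sum_esum _ (isSym_map a (hsym i))]
    simp [P, map_esum])
  have := congrArg (P.lTensor N) (ha () (Finset.mem_univ _))
  simpa [hP] using this

/-- for flat `M`, invariant elements of `N ⊗ Tⁿ(M)` come from `N ⊗ TSⁿ(M)` -/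
theorem mem_range_lTensor_subtype [Module.Flat R M] (n : ℕ) (z : N ⊗[R] T R n M)
    (hz : ∀ σ : Equiv.Perm (Fin n),
      (PiTensorProduct.reindex R (fun _ : Fin n => M) σ).toLinearMap.lTensor N z = z) :
    z ∈ LinearMap.range ((Sym R M n).subtype.lTensor N) := by
  classical
  obtain ⟨l, x, w, rfl⟩ := exists_lift_tensor n z
  have hcomm : ∀ {P Q : Type u} [AddCommGroup P] [Module R P] [AddCommGroup Q] [Module R Q] (f : P →ₗ[R] Q)
      (σ : Equiv.Perm (Fin n)) (v : N ⊗[R] T R n P),
      (Tmap n f).lTensor N ((PiTensorProduct.reindex R (fun _ : Fin n => P) σ).toLinearMap.lTensor N v) =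
        (PiTensorProduct.reindex R (fun _ : Fin n => Q) σ).toLinearMap.lTensor N ((Tmap n f).lTensor N v) := by
    intro P Q _ _ _ _ f σ v
    rw [← LinearMap.comp_apply, ← LinearMap.lTensor_comp, ← LinearMap.comp_apply, ← LinearMap.lTensor_comp]
    exact DFunLike.congr_fun (congrArg (LinearMap.lTensor N) (LinearMap.ext (Tmap_reindex f σ))) v
  obtain ⟨l', a, y, rfl, ha⟩ := exists_factor_tensor n (Finset.univ : Finset (Equiv.Perm (Fin n))) x
    (fun σ => (PiTensorProduct.reindex R (fun _ : Fin n => Fin l → R) σ).toLinearMap.lTensor N w - w)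
    (fun σ _ => by rw [map_sub, hcomm, hz σ, sub_self])
  set v := (Tmap n a).lTensor N w with hv
  have hvsym : ∀ σ : Equiv.Perm (Fin n),
      (PiTensorProduct.reindex R (fun _ : Fin n => Fin l' → R) σ).toLinearMap.lTensor N v = v := fun σ => by
    have := ha σ (Finset.mem_univ _)
    rwa [map_sub, hcomm, sub_eq_zero] at this
  let B := stdBasis R n l'
  let k := fun h => TensorProduct.rid R N ((B.coord h).lTensor N v)
  have hk : ∀ (g : Fin n → Fin l') (σ : Equiv.Perm (Fin n)), k (fun i => g (σ i)) = k g := by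
    intro g σ
    have hmap : (B.coord fun i => g (σ i)) ∘ₗ
        (PiTensorProduct.reindex R (fun _ : Fin n => Fin l' → R) σ.symm).toLinearMap = B.coord g := by
      refine B.ext fun h => ?_
      have : PiTensorProduct.reindex R (fun _ : Fin n => Fin l' → R) σ.symm (B h) = B (fun i => h (σ i)) := by
        simp only [B, stdBasis, Basis.piTensorProduct_apply, PiTensorProduct.reindex_tprod]
        rfl
      simp only [LinearMap.comp_apply, LinearEquiv.coe_coe, this, Module.Basis.coord_apply,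
        Module.Basis.repr_self]
      by_cases e : h = g
      · subst e; simp
      · rw [Finsupp.single_eq_of_ne (Ne.symm e), Finsupp.single_eq_of_ne]
        intro e'
        apply e
        funext i
        simpa using congrFun e'.symm (σ.symm i)
    simp only [k]
    conv_rhs => rw [← hmap, LinearMap.lTensor_comp, LinearMap.comp_apply, hvsym σ.symm]
  have hgroup : (Tmap n (y ∘ₗ a)).lTensor N w = ∑ h, k h ⊗ₜ[R] Tmap n y (B h) := by
    rw [show Tmap n (y ∘ₗ a) = Tmap n y ∘ₗ Tmap n a from PiTensorProduct.map_comp _ _, LinearMap.lTensor_comp,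
      LinearMap.comp_apply, ← hv, eq_sum_coord_tmul B v, map_sum]
    rfl
  rw [hgroup, ← Finset.sum_fiberwise_of_maps_to (g := mult) (t := cls n l')
    (fun h _ => Finset.mem_image_of_mem _ (Finset.mem_univ h))]
  refine Submodule.sum_mem _ fun v' hv' => ?_
  obtain ⟨g, -, hg⟩ := Finset.mem_image.1 hv'
  refine ⟨k g ⊗ₜ[R] ⟨esum R (fun c => y (Pi.basisFun R (Fin l') c)) v', mem_Sym.mpr (esum_isSym _ _)⟩, ?_⟩
  rw [LinearMap.lTensor_tmul, Submodule.subtype_apply]
  simp only [esum, TensorProduct.tmul_sum]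
  refine Finset.sum_congr rfl fun h hh => ?_
  obtain ⟨σ, hσ⟩ := exists_perm_of_mult_eq (hg.trans (Finset.mem_filter.mp hh).2.symm)
  have : k g = k h := by
    rw [show g = fun i => h (σ i) from funext fun i => (hσ i).symm, hk]
  rw [this]
  simp [B, stdBasis, Basis.piTensorProduct_apply, PiTensorProduct.map_tprod]

end Groth.Misc5Sym
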